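import Cfsg.Agent.H839.Rad.Base
import Cfsg.Agent.H792.Sp.ConwayFive
import Cfsg.Agent.S0283
import Cfsg.Agent.S1055
import Cfsg.Agent.S1679
import Cfsg.Agent.S1680

/-!
# `NoRad 5` for `HS`, `McL`, `Co₂`, `Co₃` (they contain `PSU₃(5)` with index prime to 5) and `Suz` (`G₂(4)`) (helper973)
-/

set_option autoImplicit false

namespace Cfsg.Agent.H973.Rad

open Subgroup Cfsg Cfsg.Agent.H839.Rad Cfsg.Agent.H792.SpU35

theorem not_solvable_of_card {H : Type*} [Group H] [Finite H] [hs : IsSimpleGroup H] (h : ¬ (Nat.card H).Prime) :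
    ¬ Group.IsSolvable H := by
  intro hsol
  have h1 : ∀ a b : H, a * b = b * a := IsSimpleGroup.comm_iff_isSolvable.mpr hsol
  let _ : CommGroup H := { (inferInstance : Group H) with mul_comm := h1 }
  exact h IsSimpleGroup.prime_card

/-- a proper simple subgroup of index prime to `p` -/
theorem noRad_of_hom {p : ℕ} (hp : p.Prime) {K H : Type*} [Group K] [Finite K] [Group H] [Finite H]
    [hs : IsSimpleGroup H] (hH : ¬ (Nat.card H).Prime) (f : H →* K) (hf : Function.Injective f)
    (hlt : Nat.card H < Nat.card K) (hi : ¬ p ∣ Nat.card K / Nat.card H) : NoRad p K := by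
  intro x hx h _
  have hc : Nat.card f.range = Nat.card H := (Nat.card_congr (MonoidHom.ofInjective hf).toEquiv).symm
  refine false_of_sylow hp hx h (M := f.range) ?_ ?_ ?_
  · intro h1
    rw [h1, Subgroup.card_top] at hc
    omega
  · intro h1
    apply hi
    have h2 := f.range.card_mul_index
    rw [hc] at h2
    rw [← h2, Nat.mul_div_cancel_left _ Nat.card_pos]
    exact h1
  · have : IsSimpleGroup f.range := (MonoidHom.ofInjective hf).symm.isSimpleGroup
    exact RadFree.of_simple hp.one_lt.ne' (not_solvable_of_card (by rw [hc]; exact hH))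

theorem not_prime_of_mul {n a b : ℕ} (h : n = a * b) (ha : a ≠ 1) (hb : b ≠ 1) : ¬ n.Prime := by
  rw [h]
  exact Nat.not_prime_mul ha hb

theorem Tri_noRad {v w x : leechLattice} (T : Tri v w x) (K : Subgroup (Equiv.Perm leechLattice))
    [Finite K] {n : ℕ} (hn : Nat.card K = n) (hlt : 126000 < n) (hi : ¬ 5 ∣ n / 126000)
    (hK : ∀ g : Co0, g • v = v → g • w = w → g • x = x → (g : Equiv.Perm leechLattice) ∈ K) : NoRad 5 K := by
  obtain ⟨F, _, _, hF⟩ := exists_field
  obtain ⟨e⟩ := T.exists_hom hF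
  let W := MulAction.stabilizer Co0 v ⊓ MulAction.stabilizer Co0 w ⊓ MulAction.stabilizer Co0 x
  let f : W →* K := (Co0.subtype.comp W.subtype).codRestrict K fun g => hK g.1 g.2.1.1 g.2.1.2 g.2.2
  have hf : Function.Injective f := by
    intro a b h
    have h1 := congrArg Subtype.val h
    exact Subtype.ext (Subtype.ext h1)
  have hcard := card_psu hF
  have hfin : Finite (PSU 3 F 5) := Nat.finite_of_card_ne_zero (by rw [hcard]; norm_num)
  have hs : IsSimpleGroup (PSU 3 F 5) := S0283.result (by rw [hF]; norm_num) 3 le_rfl (by norm_num)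
  refine noRad_of_hom Nat.prime_five (not_prime_of_mul (a := 2) (b := 63000) hcard (by norm_num) (by norm_num))
    (f.comp e.toMonoidHom) ?_ (by rw [hcard, hn]; exact hlt) (by rw [hcard, hn]; exact hi)
  rw [MonoidHom.coe_comp]
  exact hf.comp e.injective

section

variable {K : Type*} [Group K] [Finite K]

theorem noRad_HS (h : Cfsg.Spor.IsoHS K) : NoRad 5 K := by
  obtain ⟨e⟩ := h
  have : Finite Spor.HS := Nat.finite_of_card_ne_zero (by rw [card_HS]; norm_num)
  obtain ⟨x, T⟩ := exists_tri sq_V hs_pair.1 hs_pair.2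
  exact NoRad.congr e (Tri_noRad T Spor.HS card_HS (by norm_num) (by norm_num) fun g h1 h2 _ => mem_HS h1 h2)

theorem noRad_Co3 (h : Cfsg.Spor.IsoCo3 K) : NoRad 5 K := by
  obtain ⟨e⟩ := h
  have : Finite Spor.Co3 := Nat.finite_of_card_ne_zero (by rw [card_Co3]; norm_num)
  obtain ⟨x, T⟩ := exists_tri sq_V hs_pair.1 hs_pair.2
  exact NoRad.congr e (Tri_noRad T Spor.Co3 card_Co3 (by norm_num) (by norm_num) fun g h1 _ _ => ⟨g.2, h1⟩)

theorem noRad_McL (h : Cfsg.Spor.IsoMcL K) : NoRad 5 K := by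
  obtain ⟨e⟩ := h
  have : Finite Spor.McL := Nat.finite_of_card_ne_zero (by rw [card_McL]; norm_num)
  obtain ⟨x, T⟩ := exists_tri_mcl
  exact NoRad.congr e (Tri_noRad T Spor.McL card_McL (by norm_num) (by norm_num)
    fun g _ h1 h2 => ⟨⟨g.2, h1⟩, h2⟩)

theorem noRad_Co2 (h : Cfsg.Spor.IsoCo2 K) : NoRad 5 K := by
  obtain ⟨e⟩ := h
  have : Finite Spor.Co2 := Nat.finite_of_card_ne_zero (by rw [card_Co2]; norm_num)
  obtain ⟨x, T⟩ := exists_tri_mcl
  exact NoRad.congr e (Tri_noRad T Spor.Co2 card_Co2 (by norm_num) (by norm_num) fun g _ _ h2 => ⟨g.2, h2⟩)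

theorem noRad_Suz (h : Cfsg.Spor.IsoSuz K) : NoRad 5 K := by
  obtain ⟨e⟩ := h
  have hfin : Finite Cfsg.Spor.Suz := Finite.of_equiv K e.toEquiv
  obtain ⟨F, _, _, hF, ⟨e'⟩⟩ := S1679.result
  refine NoRad.congr e ?_
  intro x hx h _
  have hs : IsSimpleGroup ↥(Cfsg.Lie.chevG2.group F) := by
    refine (S1055.result ?_).1
    classical
    by_contra hcon
    push Not at hcon
    have h4 : Fintype.card F ≤ 2 := by
      have h5 : (Finset.univ : Finset F) ⊆ {0, 1} := fun a _ => by
        by_cases h6 : a = 0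
        · simp [h6]
        · simp [hcon a h6]
      calc Fintype.card F = (Finset.univ : Finset F).card := rfl
        _ ≤ ({0, 1} : Finset F).card := Finset.card_le_card h5
        _ ≤ 2 := Finset.card_le_two
    omega
  have hidx := S1680.result.1
  refine false_of_sylow Nat.prime_five hx h ?_ (by rw [hidx]; norm_num) ?_
  · intro h1
    rw [h1, Subgroup.index_top] at hidx
    exact absurd hidx (by norm_num)
  · have hM := e'.isSimpleGroup
    refine RadFree.of_simple (by norm_num) (not_solvable_of_card ?_)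
    have h1 := Subgroup.card_mul_index ((Subgroup.closure ({Cfsg.Spor.Suz.a, Cfsg.Spor.Suz.b, Cfsg.Spor.Suz.c,
      Cfsg.Spor.Suz.d, Cfsg.Spor.Suz.e, Cfsg.Spor.Suz.f} : Set (FreeGroup Cfsg.Spor.Suz.Gen))).map
        (PresentedGroup.mk (Cfsg.Spor.coxRelators Cfsg.Spor.Suz.edges ∪ {r | r ∈ Cfsg.Spor.Suz.extra})))
    rw [hidx, SporadicRecognition.SuzOrder.card_Suz] at h1
    refine not_prime_of_mul (a := 2) (b := 125798400) ?_ (by norm_num) (by norm_num)
    exact Nat.eq_of_mul_eq_mul_right (by norm_num : 0 < 1782) (h1.trans (by norm_num))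

end

end Cfsg.Agent.H973.Rad
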